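import Groth.Agent.SmoothDimLib.Criterion
import Mathlib.RingTheory.Ideal.Quotient.Operations

/-!
# Hyperplane sections at a smooth point
-/

set_option autoImplicit false
set_option linter.style.haveILetI false
universe u
open TensorProduct

noncomputable section

namespace HypTransLib

variable {k : Type u} [Field k] {A : Type u} [CommRing A] [Algebra k A]

/-- A standard smooth integral chart at a smooth point. -/
theorem exists_std_chart [Algebra.FiniteType k A] (q : Ideal A) [q.IsPrime] [Algebra.IsSmoothAt k q] :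
    ∃ (g : A) (e : ℕ), g ∉ q ∧ IsDomain (Localization.Away g) ∧
      Algebra.IsStandardSmoothOfRelativeDimension e k (Localization.Away g) := by
  haveI : IsNoetherianRing A := Algebra.FiniteType.isNoetherianRing k A
  haveI : Algebra.FinitePresentation k A := Algebra.FinitePresentation.of_finiteType.mp ‹_›
  haveI : IsNoetherianRing (Localization.AtPrime q) := IsLocalization.isNoetherianRing q.primeCompl _ inferInstance
  haveI : Algebra.FormallySmooth k (Localization.AtPrime q) := ‹Algebra.IsSmoothAt k q›
  haveI : IsRegularLocalRing (Localization.AtPrime q) := CohenLib.isRegularLocalRing_of_formallySmooth (k := k)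
  haveI : IsDomain (Localization.AtPrime q) := CommAlgDim.isDomain_of_isRegularLocalRing _
  obtain ⟨g₂, hg₂, hdom⟩ := SmoothDimLib.exists_isDomain_away q
  obtain ⟨g₁, hg₁, hstd⟩ := Algebra.IsSmoothAt.exists_notMem_isStandardSmooth k q
  let g := g₂ * g₁
  let A₁ := Localization.Away g₁
  let Ag := Localization.Away g
  haveI : IsDomain Ag := hdom g₁ hg₁ Ag
  let A₂ := Localization.Away (algebraMap A A₁ g₂)
  haveI : IsLocalization.Away g A₂ := by
    have h := IsLocalization.Away.mul' A₁ A₂ g₁ g₂
    rwa [mul_comm] at h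
  haveI : Algebra.IsStandardSmooth A₁ A₂ := Algebra.IsStandardSmooth.localization_away (algebraMap A A₁ g₂)
  haveI : Algebra.IsStandardSmooth k A₂ := Algebra.IsStandardSmooth.trans k A₁ A₂
  haveI : Algebra.IsStandardSmooth k Ag := Algebra.IsStandardSmooth.of_algEquiv
    ((IsLocalization.algEquiv (Submonoid.powers g) A₂ Ag).restrictScalars k)
  obtain ⟨ι, σ, _, _, ⟨P⟩⟩ := ‹Algebra.IsStandardSmooth k Ag›.out
  exact ⟨g, P.dimension, Ideal.IsPrime.mul_notMem ‹_› hg₂ hg₁, inferInstance,
    P.isStandardSmoothOfRelativeDimension rfl⟩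

variable (g : A) (e : ℕ) [Algebra.IsStandardSmoothOfRelativeDimension e k (Localization.Away g)]

/-- The rank of the differentials on a standard smooth chart. -/
theorem finrank_kaehler (K : Type u) [Field K] [Algebra A K] (hg : algebraMap A K g ≠ 0) :
    Module.finrank K (K ⊗[A] Ω[A⁄k]) = e := by
  haveI : Algebra.IsStandardSmooth k (Localization.Away g) :=
    Algebra.IsStandardSmoothOfRelativeDimension.isStandardSmooth e
  let hu : IsUnit (algebraMap A K g) := IsUnit.mk0 _ hg
  letI : Algebra (Localization.Away g) K := (IsLocalization.Away.lift g hu).toAlgebra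
  haveI : IsScalarTower A (Localization.Away g) K :=
    IsScalarTower.of_algebraMap_eq fun r => (IsLocalization.Away.lift_eq g hu r).symm
  haveI : Nontrivial (Localization.Away g) := (algebraMap (Localization.Away g) K).domain_nontrivial
  rw [(SmoothDimLib.tensorKaehlerLocEquiv (k := k) A (Localization.Away g) (Submonoid.powers g) K).finrank_eq,
    Module.finrank_baseChange]
  exact Module.finrank_eq_of_rank_eq (Algebra.IsStandardSmoothOfRelativeDimension.rank_kaehlerDifferential e)

include k g in
/-- The local dimension on a standard smooth chart. -/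
theorem localDim_eq (x : PrimeSpectrum A) (hx : g ∉ x.asIdeal) :
    FlatMor.localDim (PrimeSpectrum A) x = e := by
  obtain ⟨y, hy⟩ : x ∈ Set.range (PrimeSpectrum.comap (algebraMap A (Localization.Away g))) := by
    rw [PrimeSpectrum.localization_away_comap_range (Localization.Away g) g]
    exact hx
  rw [← hy]
  exact (FibDimLib.localDim_eq_of_isOpenEmbedding
    (PrimeSpectrum.localization_away_isOpenEmbedding (Localization.Away g) g) y).trans
    (SmoothDimLib.localDim_eq_of_standardSmooth (k := k) e (Localization.Away g) y)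

/-- Cutting by one function whose differential does not vanish. -/
theorem finrank_quotient (l : A) (K : Type u) [Field K] [Algebra A K] [Algebra (A ⧸ Ideal.span {l}) K]
    [IsScalarTower A (A ⧸ Ideal.span {l}) K] [Module.Finite K (K ⊗[A] Ω[A⁄k])]
    (hdl : (1 : K) ⊗ₜ[A] KaehlerDifferential.D k A l ≠ 0) :
    Module.finrank K (K ⊗[A ⧸ Ideal.span {l}] Ω[(A ⧸ Ideal.span {l})⁄k]) + 1 =
      Module.finrank K (K ⊗[A] Ω[A⁄k]) := by
  let B := A ⧸ Ideal.span {l}
  letI : Algebra k K := ((algebraMap A K).comp (algebraMap k A)).toAlgebra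
  haveI : IsScalarTower k A K := IsScalarTower.of_algebraMap_eq' rfl
  haveI : IsScalarTower k B K := IsScalarTower.of_algebraMap_eq fun c =>
    show algebraMap A K (algebraMap k A c) = _ by
      rw [IsScalarTower.algebraMap_apply A B K, ← IsScalarTower.algebraMap_apply k A B]
  let Θ : K ⊗[A] Ω[A⁄k] →ₗ[K] K ⊗[B] Ω[B⁄k] := LinearMap.liftBaseChange K
    (((TensorProduct.mk B K Ω[B⁄k] 1).restrictScalars A).comp (KaehlerDifferential.map k k A B))
  have hΘ : ∀ a : A, Θ (1 ⊗ₜ KaehlerDifferential.D k A a) =
      1 ⊗ₜ KaehlerDifferential.D k B (algebraMap A B a) := fun a => by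
    simp [Θ, KaehlerDifferential.map_D]
  let N := Submodule.span K {(1 : K) ⊗ₜ[A] KaehlerDifferential.D k A l}
  let M := (K ⊗[A] Ω[A⁄k]) ⧸ N
  let d : A → M := fun a => N.mkQ (1 ⊗ₜ KaehlerDifferential.D k A a)
  have hdadd : ∀ a b, d (a + b) = d a + d b := fun a b => by simp [d, tmul_add]
  have hdmul : ∀ a b, d (a * b) = algebraMap A K a • d b + algebraMap A K b • d a := fun a b => by
    simp only [d, Derivation.leibniz, tmul_add, map_add, ← map_smul]
    congr 2 <;> rw [TensorProduct.tmul_smul] <;> exact (algebraMap_smul K _ _).symm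
  have hl : algebraMap A K l = 0 := by
    rw [IsScalarTower.algebraMap_apply A B K, show algebraMap A B l = 0 from
      Ideal.Quotient.eq_zero_iff_mem.mpr (Ideal.mem_span_singleton_self l), map_zero]
  have hd0 : ∀ a b, algebraMap A B a = algebraMap A B b → d a = d b := fun a b h => by
    obtain ⟨c, hc⟩ := Ideal.mem_span_singleton'.mp (Ideal.Quotient.eq.mp h)
    rw [show a = b + c * l by rw [hc]; ring, hdadd, hdmul, hl, zero_smul, add_zero,
      show d l = 0 from (Submodule.Quotient.mk_eq_zero N).mpr (Submodule.mem_span_singleton_self _),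
      smul_zero, add_zero]
  have hπ : Function.Surjective (algebraMap A B) := Ideal.Quotient.mk_surjective
  let σ := Function.surjInv hπ
  have hσ : ∀ a, d (σ (algebraMap A B a)) = d a := fun a => hd0 _ _ (Function.surjInv_eq hπ _)
  let Dl : B →ₗ[k] M :=
    { toFun := fun b => d (σ b)
      map_add' := fun s t => by
        obtain ⟨x, rfl⟩ := hπ s
        obtain ⟨y, rfl⟩ := hπ t
        rw [← map_add, hσ, hσ, hσ, hdadd]
      map_smul' := fun c s => by
        obtain ⟨x, rfl⟩ := hπ s
        rw [RingHom.id_apply, show c • algebraMap A B x = algebraMap A B (c • x) from rfl, hσ, hσ]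
        simp only [d, Derivation.map_smul, TensorProduct.tmul_smul]
        exact (N.mkQ.restrictScalars k).map_smul c _ }
  haveI : IsScalarTower B K M := inferInstance
  haveI : IsScalarTower k B M := IsScalarTower.of_algebraMap_smul fun c x => by
    rw [← algebraMap_smul K (algebraMap k B c) x]
    rw [← IsScalarTower.algebraMap_apply, algebraMap_smul]
  let D : Derivation k B M := Derivation.mk' Dl fun s t => by
    obtain ⟨x, rfl⟩ := hπ s
    obtain ⟨y, rfl⟩ := hπ t
    show d (σ (algebraMap A B x * algebraMap A B y)) =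
      algebraMap A B x • d (σ (algebraMap A B y)) +
        algebraMap A B y • d (σ (algebraMap A B x))
    rw [← algebraMap_smul K (algebraMap A B x) (d (σ (algebraMap A B y))),
      ← algebraMap_smul K (algebraMap A B y) (d (σ (algebraMap A B x))), ← map_mul, hσ, hσ, hσ, hdmul, ← IsScalarTower.algebraMap_apply, ← IsScalarTower.algebraMap_apply]
  let Ψ : K ⊗[B] Ω[B⁄k] →ₗ[K] M := LinearMap.liftBaseChange K D.liftKaehlerDifferential
  have hspanA : Submodule.span K (Set.range fun a : A => (1 : K) ⊗ₜ[A] KaehlerDifferential.D k A a) = ⊤ := by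
    rw [show Set.range (fun a : A => (1 : K) ⊗ₜ[A] KaehlerDifferential.D k A a) =
        TensorProduct.mk A K Ω[A⁄k] 1 '' Set.range (KaehlerDifferential.D k A) by rw [← Set.range_comp]; rfl,
      ← Submodule.baseChange_span, KaehlerDifferential.span_range_derivation, Submodule.baseChange_top]
  have hspanB : Submodule.span K (Set.range fun b : B => (1 : K) ⊗ₜ[B] KaehlerDifferential.D k B b) = ⊤ := by
    rw [show Set.range (fun b : B => (1 : K) ⊗ₜ[B] KaehlerDifferential.D k B b) =
        TensorProduct.mk B K Ω[B⁄k] 1 '' Set.range (KaehlerDifferential.D k B) by rw [← Set.range_comp]; rfl,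
      ← Submodule.baseChange_span, KaehlerDifferential.span_range_derivation, Submodule.baseChange_top]
  have hN : N ≤ LinearMap.ker Θ := (Submodule.span_singleton_le_iff_mem _ _).mpr (by
    rw [LinearMap.mem_ker, hΘ, show algebraMap A B l = 0 from
      Ideal.Quotient.eq_zero_iff_mem.mpr (Ideal.mem_span_singleton_self l), map_zero, tmul_zero])
  let Θ' : M →ₗ[K] K ⊗[B] Ω[B⁄k] := N.liftQ Θ hN
  have h1 : Θ'.comp Ψ = LinearMap.id := LinearMap.ext_on_range hspanB fun b => by
    obtain ⟨a, rfl⟩ := hπ b
    simp only [LinearMap.comp_apply, LinearMap.id_apply]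
    rw [show Ψ ((1 : K) ⊗ₜ[B] KaehlerDifferential.D k B (algebraMap A B a)) = d a from by
      simp [Ψ, D, Dl, hσ]]
    exact hΘ a
  have h2 : Ψ.comp Θ' = LinearMap.id := Submodule.linearMap_qext N <| LinearMap.ext_on_range hspanA fun a => by
    simp only [LinearMap.comp_apply, LinearMap.id_apply]
    rw [show Θ' (N.mkQ ((1 : K) ⊗ₜ[A] KaehlerDifferential.D k A a)) = _ from hΘ a]
    simp [Ψ, D, Dl, hσ]
    rfl
  let eM : (K ⊗[B] Ω[B⁄k]) ≃ₗ[K] M := LinearEquiv.ofLinear Ψ Θ' h2 h1
  rw [eM.finrank_eq, ← finrank_span_singleton (K := K) hdl]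
  exact Submodule.finrank_quotient_add_finrank N

/-- A hyperplane section is smooth where the differential of the equation does not vanish. -/
theorem exists_smooth_hyperplane [Algebra.FiniteType k A] (l : A) (q : Ideal (A ⧸ Ideal.span {l})) [q.IsPrime]
    (hg : g ∉ q.comap (Ideal.Quotient.mk _))
    (hdl : (1 : q.ResidueField) ⊗ₜ[A] KaehlerDifferential.D k A l ≠ 0) :
    ∃ f : A ⧸ Ideal.span {l}, f ∉ q ∧
      Algebra.IsStandardSmoothOfRelativeDimension (e - 1) k (Localization.Away f) := by
  let B := A ⧸ Ideal.span {l}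
  let K := q.ResidueField
  haveI : Algebra.IsStandardSmooth k (Localization.Away g) :=
    Algebra.IsStandardSmoothOfRelativeDimension.isStandardSmooth e
  let Ag := Localization.Away g
  let Q₀ := Localization.Away (algebraMap A B g)
  let φ : Ag →+* Q₀ := Localization.awayMap (algebraMap A B) g
  letI : Algebra Ag Q₀ := φ.toAlgebra
  have hφ : ∀ a, φ (algebraMap A Ag a) = algebraMap B Q₀ (algebraMap A B a) := fun a => IsLocalization.map_eq _ a
  haveI : IsScalarTower k Ag Q₀ := IsScalarTower.of_algebraMap_eq fun c => by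
    rw [RingHom.algebraMap_toAlgebra, IsScalarTower.algebraMap_apply k A Ag, hφ,
      ← IsScalarTower.algebraMap_apply k A B, ← IsScalarTower.algebraMap_apply k B Q₀]
  have hgK : algebraMap A K g ≠ 0 := fun h => hg (by
    rw [IsScalarTower.algebraMap_apply A B K, Ideal.algebraMap_residueField_eq_zero] at h
    exact h)
  have hu : IsUnit (algebraMap A K g) := IsUnit.mk0 _ hgK
  have hu' : IsUnit (algebraMap B K (algebraMap A B g)) := by
    rwa [← IsScalarTower.algebraMap_apply]
  letI : Algebra Ag K := (IsLocalization.Away.lift g hu).toAlgebra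
  letI : Algebra Q₀ K := (IsLocalization.Away.lift (algebraMap A B g) hu').toAlgebra
  haveI : IsScalarTower A Ag K :=
    IsScalarTower.of_algebraMap_eq fun r => (IsLocalization.Away.lift_eq g hu r).symm
  haveI : IsScalarTower B Q₀ K :=
    IsScalarTower.of_algebraMap_eq fun r => (IsLocalization.Away.lift_eq _ hu' r).symm
  haveI : IsScalarTower Ag Q₀ K := IsScalarTower.of_algebraMap_eq' <|
    IsLocalization.ringHom_ext (Submonoid.powers g) <| RingHom.ext fun r => by
      show algebraMap Ag K (algebraMap A Ag r) = algebraMap Q₀ K (φ (algebraMap A Ag r))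
      rw [hφ, ← IsScalarTower.algebraMap_apply, ← IsScalarTower.algebraMap_apply,
        ← IsScalarTower.algebraMap_apply]
  have hsurj : Function.Surjective (algebraMap Ag Q₀) :=
    Localization.awayMap_surjective_iff.mpr fun b => by
      obtain ⟨a, ha⟩ := Ideal.Quotient.mk_surjective b
      exact ⟨a, 0, by rw [pow_zero, one_mul]; exact ha⟩
  have hker : RingHom.ker (algebraMap Ag Q₀) =
      Ideal.span (Set.range fun _ : PUnit.{u + 1} => algebraMap A Ag l) := by
    refine (@IsLocalization.ker_map A Ag B Q₀ _ _ _ _ (Submonoid.powers g)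
      (Submonoid.powers (algebraMap A B g)) _ _ _ _ (algebraMap A B) (Submonoid.map_powers _ _)).trans ?_
    rw [show RingHom.ker (algebraMap A B) = Ideal.span {l} from Ideal.mk_ker, Ideal.map_span,
      Set.image_singleton, Set.range_const]
  let q₀ : Ideal Q₀ := RingHom.ker (algebraMap Q₀ K)
  haveI : q₀.IsPrime := RingHom.ker_isPrime _
  haveI : Algebra.IsSmoothAt k q₀ := SmoothDimLib.isSmoothAt_quotient (fun _ => algebraMap A Ag l) hsurj
    hker K q₀ rfl (by
      rw [linearIndependent_unique_iff]
      intro h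
      apply hdl
      apply (SmoothDimLib.tensorKaehlerLocEquiv (k := k) A Ag (Submonoid.powers g) K).injective
      rw [SmoothDimLib.tensorKaehlerLocEquiv_tmul, map_zero]
      exact h)
  haveI : Algebra.FiniteType k B := inferInstance
  haveI : Algebra.FiniteType B Q₀ := IsLocalization.finiteType_of_monoid_fg (Submonoid.powers (algebraMap A B g)) Q₀
  haveI : Algebra.FiniteType k Q₀ := Algebra.FiniteType.trans (S := B) inferInstance inferInstance
  obtain ⟨g₁, e₁, hg₁, -, hstd⟩ := exists_std_chart (k := k) q₀
  have he₁ : e₁ + 1 = e := by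
    rw [← finrank_kaehler (k := k) g₁ e₁ K hg₁,
      ← (SmoothDimLib.tensorKaehlerLocEquiv (k := k) B Q₀ (Submonoid.powers (algebraMap A B g)) K).finrank_eq,
      finrank_quotient (k := k) l K hdl, finrank_kaehler (k := k) g e K hgK]
  let f₁ := (IsLocalization.Away.sec (algebraMap A B g) g₁).1
  have hass : Associated (algebraMap B Q₀ f₁) g₁ :=
    IsLocalization.Away.associated_sec_fst (algebraMap A B g) g₁
  haveI : IsLocalization.Away (algebraMap A B g * f₁) (Localization.Away g₁) :=
    IsLocalization.Away.mul_of_associated _ _ g₁ hass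
  refine ⟨algebraMap A B g * f₁, Ideal.IsPrime.mul_notMem ‹_› hg fun hmem => hg₁ ?_, ?_⟩
  · rw [← Ideal.mem_iff_of_associated hass, RingHom.mem_ker, ← IsScalarTower.algebraMap_apply,
      Ideal.algebraMap_residueField_eq_zero]
    exact hmem
  · rw [show e - 1 = e₁ by omega]
    exact Algebra.IsStandardSmoothOfRelativeDimension.of_algEquiv e₁
      ((IsLocalization.algEquiv (Submonoid.powers (algebraMap A B g * f₁)) (Localization.Away g₁)
        (Localization.Away (algebraMap A B g * f₁))).restrictScalars k)

end HypTransLib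

end
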