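import Groth.Agent.HypTransLib.Local
import Groth.Agent.FibDimLib.Formula
import Mathlib.RingTheory.Support
import Mathlib.LinearAlgebra.Dimension.Finrank

/-!
# Hyperplanes tangent to a smooth chart form a proper subset
-/

set_option autoImplicit false
set_option linter.style.haveILetI false
universe u
open TensorProduct

noncomputable section

namespace HypTransLib

variable {k : Type u} [Field k] {A : Type u} [CommRing A] [Algebra k A] {n : ℕ} {x : Fin n → A}

theorem span_differentials (hx : Function.Surjective (MvPolynomial.aeval x : MvPolynomial (Fin n) k →ₐ[k] A)) :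
    Submodule.span A (Set.range fun i => KaehlerDifferential.D k A (x i)) = ⊤ := by
  rw [eq_top_iff, ← KaehlerDifferential.span_range_derivation, Submodule.span_le]
  rintro _ ⟨a, rfl⟩
  obtain ⟨p, rfl⟩ := hx a
  rw [SetLike.mem_coe]
  induction p using MvPolynomial.induction_on with
  | C c => simp
  | add p q hp hq => rw [map_add, map_add]; exact add_mem hp hq
  | mul_X p i hp =>
    rw [map_mul, MvPolynomial.aeval_X, Derivation.leibniz]
    exact add_mem (Submodule.smul_mem _ _ (Submodule.subset_span ⟨i, rfl⟩)) (Submodule.smul_mem _ _ hp)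

theorem span_tensor_differentials
    (hx : Function.Surjective (MvPolynomial.aeval x : MvPolynomial (Fin n) k →ₐ[k] A))
    (K : Type u) [Field K] [Algebra A K] :
    Submodule.span K (Set.range fun i => (1 : K) ⊗ₜ[A] KaehlerDifferential.D k A (x i)) = ⊤ := by
  rw [show Set.range (fun i => (1 : K) ⊗ₜ[A] KaehlerDifferential.D k A (x i)) =
      TensorProduct.mk A K Ω[A⁄k] 1 '' Set.range (fun i => KaehlerDifferential.D k A (x i)) by
      rw [← Set.range_comp]; rfl,
    ← Submodule.baseChange_span, span_differentials hx, Submodule.baseChange_top]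

/-- The differential of an affine function. -/
theorem one_tmul_D_affine (K : Type u) [Field K] [Algebra A K] (a : Fin (n + 1) → k) :
    (1 : K) ⊗ₜ[A] KaehlerDifferential.D k A
        (algebraMap k A (a 0) + ∑ i, algebraMap k A (a i.succ) * x i) =
      ∑ i, algebraMap A K (algebraMap k A (a i.succ)) • ((1 : K) ⊗ₜ[A] KaehlerDifferential.D k A (x i)) := by
  rw [map_add, Derivation.map_algebraMap, zero_add, map_sum, TensorProduct.tmul_sum]
  refine Finset.sum_congr rfl fun i _ => ?_
  rw [← Algebra.smul_def, Derivation.map_smul, ← algebraMap_smul A (a i.succ) (KaehlerDifferential.D k A (x i)),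
    TensorProduct.tmul_smul]
  exact (algebraMap_smul K _ _).symm

/-- Near a smooth point the coefficient vectors of tangent hyperplanes satisfy an equation. -/
theorem exists_tangent_equation [Algebra.FiniteType k A]
    (hx : Function.Surjective (MvPolynomial.aeval x : MvPolynomial (Fin n) k →ₐ[k] A))
    (q : Ideal A) [q.IsPrime] [Algebra.IsSmoothAt k q] :
    ∃ (s : A) (P : MvPolynomial (Fin (n + 1)) k), s ∉ q ∧ P ≠ 0 ∧
      ∀ (K : Type u) [Field K] [Algebra A K], algebraMap A K s ≠ 0 → ∀ a : Fin (n + 1) → k,
        algebraMap A K (algebraMap k A (a 0) + ∑ i, algebraMap k A (a i.succ) * x i) = 0 →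
        (1 : K) ⊗ₜ[A] KaehlerDifferential.D k A
            (algebraMap k A (a 0) + ∑ i, algebraMap k A (a i.succ) * x i) = 0 →
          MvPolynomial.eval a P = 0 := by
  classical
  obtain ⟨g, e, hg, hdom, hstd⟩ := exists_std_chart (k := k) q
  let κ := q.ResidueField
  have hgκ : algebraMap A κ g ≠ 0 := fun h => hg (Ideal.algebraMap_residueField_eq_zero.mp h)
  let dx : Fin n → Ω[A⁄k] := fun i => KaehlerDifferential.D k A (x i)
  obtain ⟨ι, σ, hσinj, hσspan, hσli⟩ := exists_linearIndependent' κ fun i => (1 : κ) ⊗ₜ[A] dx i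
  haveI : Finite ι := Finite.of_injective σ hσinj
  letI := Fintype.ofFinite ι
  have hcard : Fintype.card ι = e := by
    rw [← finrank_kaehler (k := k) g e κ hgκ, Module.finrank_eq_card_basis (Module.Basis.mk hσli
      (by rw [hσspan, span_tensor_differentials hx κ]))]
  -- Nakayama
  let N := Submodule.span A (Set.range (dx ∘ σ))
  haveI : Module.Finite A Ω[A⁄k] := inferInstance
  have hsupp : (⟨q, ‹_›⟩ : PrimeSpectrum A) ∉ Module.support A (Ω[A⁄k] ⧸ N) := by
    rw [Module.mem_support_iff_nontrivial_residueField_tensorProduct, not_nontrivial_iff_subsingleton]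
    have hbot : ∀ z : κ ⊗[A] Ω[A⁄k], N.mkQ.baseChange κ z = 0 := by
      have hz : Submodule.span κ (Set.range ((fun i => (1 : κ) ⊗ₜ[A] dx i) ∘ σ)) ≤
          LinearMap.ker (N.mkQ.baseChange κ) := Submodule.span_le.mpr (by
        rintro _ ⟨i, rfl⟩
        show N.mkQ.baseChange κ ((1 : κ) ⊗ₜ[A] dx (σ i)) = 0
        rw [LinearMap.baseChange_tmul, show N.mkQ (dx (σ i)) = 0 from
          (Submodule.Quotient.mk_eq_zero N).mpr (Submodule.subset_span ⟨i, rfl⟩), tmul_zero])
      rw [hσspan, span_tensor_differentials hx κ] at hz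
      exact fun z => hz trivial
    refine ⟨fun u v => ?_⟩
    obtain ⟨u, rfl⟩ := LinearMap.lTensor_surjective κ N.mkQ_surjective u
    obtain ⟨v, rfl⟩ := LinearMap.lTensor_surjective κ N.mkQ_surjective v
    exact (hbot u).trans (hbot v).symm
  rw [Module.notMem_support_iff'] at hsupp
  choose r hr hr0 using fun j => hsupp (N.mkQ (dx j))
  let h := ∏ j, r j
  have hh : h ∉ q := fun hmem => by
    obtain ⟨j, -, hj⟩ := Ideal.IsPrime.prod_mem_iff.mp hmem
    exact hr j hj
  have hmemN : ∀ j, h • dx j ∈ N := fun j => by
    rw [← Submodule.Quotient.mk_eq_zero, Submodule.Quotient.mk_smul,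
      show h = (∏ i ∈ Finset.univ.erase j, r i) * r j from (Finset.prod_erase_mul _ _ (Finset.mem_univ j)).symm,
      mul_smul, show r j • (Submodule.Quotient.mk (dx j) : Ω[A⁄k] ⧸ N) = 0 from hr0 j, smul_zero]
  choose c hc using fun j => (Submodule.mem_span_range_iff_exists_fun A).mp (hmemN j)
  -- the parametrisation
  let J : Finset (Fin n) := Finset.univ.image σ
  let Ag := Localization.Away g
  let R := MvPolynomial (↥(Jᶜ : Finset (Fin n))) Ag
  let w : Fin n → R := fun j =>
    if hj : j ∈ J then
      -∑ t : ↥(Jᶜ : Finset (Fin n)),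
        MvPolynomial.C (algebraMap A Ag (c t.1 (Finset.mem_image.mp hj).choose)) * MvPolynomial.X t
    else MvPolynomial.C (algebraMap A Ag h) * MvPolynomial.X ⟨j, Finset.mem_compl.mpr hj⟩
  let v : Fin (n + 1) → R := Fin.cons (-∑ j, MvPolynomial.C (algebraMap A Ag (x j)) * w j) w
  have hdim : ∃ P : MvPolynomial (Fin (n + 1)) k, P ≠ 0 ∧ MvPolynomial.aeval v P = 0 := by
    by_contra hno
    push Not at hno
    have hind : AlgebraicIndependent k v :=
      (injective_iff_map_eq_zero _).mpr fun P hP => by_contra fun h0 => hno P h0 hP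
    haveI : IsDomain Ag := hdom
    haveI : Algebra.IsStandardSmooth k Ag := Algebra.IsStandardSmoothOfRelativeDimension.isStandardSmooth e
    haveI : IsNoetherianRing Ag := Algebra.FiniteType.isNoetherianRing k Ag
    haveI : Algebra.FiniteType k R := Algebra.FiniteType.trans (S := Ag) inferInstance inferInstance
    obtain ⟨s, hs, hs'⟩ := WeilLib.dim_eq_trdeg k R (FractionRing R)
    rw [MvPolynomial.ringKrullDim_of_isNoetherianRing,
      SmoothDimLib.ringKrullDim_eq_of_standardSmooth (k := k) e Ag] at hs
    have hJ : J.card = e := by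
      rw [Finset.card_image_of_injective _ hσinj, Finset.card_univ, hcard]
    have hle : e ≤ n := by
      have := J.card_le_univ
      rw [hJ, Fintype.card_fin] at this
      exact this
    rw [Nat.card_eq_fintype_card, Fintype.card_coe, Finset.card_compl, hJ, Fintype.card_fin] at hs
    have hsn : s = n := by
      have : e + (n - e) = s := by exact_mod_cast hs
      omega
    have h1 := AlgebraicIndependent.lift_cardinalMk_le_trdeg
      (hind.map' (f := IsScalarTower.toAlgHom k R (FractionRing R)) (IsFractionRing.injective R _))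
    rw [hs', hsn, Cardinal.mk_fin, Cardinal.lift_natCast, Cardinal.lift_natCast, Nat.cast_le] at h1
    omega
  obtain ⟨P, hP, hP0⟩ := hdim
  refine ⟨g * h, P, Ideal.IsPrime.mul_notMem ‹_› hg hh, hP, fun K _ _ hK a hl hdl => ?_⟩
  rw [map_mul] at hK
  obtain ⟨hgK, hhK⟩ := mul_ne_zero_iff.mp hK
  let vK : Fin n → K ⊗[A] Ω[A⁄k] := fun i => (1 : K) ⊗ₜ[A] dx i
  have hvK : ∀ j, algebraMap A K h • vK j = ∑ i, algebraMap A K (c j i) • vK (σ i) := fun j => by
    simp only [vK, algebraMap_smul, ← TensorProduct.tmul_smul, ← TensorProduct.tmul_sum]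
    exact congrArg _ (hc j).symm
  have hliK : LinearIndependent K (vK ∘ σ) := by
    refine linearIndependent_of_top_le_span_of_card_eq_finrank ?_ (by rw [hcard, finrank_kaehler (k := k) g e K hgK])
    rw [← span_tensor_differentials hx K, Submodule.span_le]
    rintro _ ⟨j, rfl⟩
    rw [SetLike.mem_coe, ← Submodule.smul_mem_iff _ hhK]
    show algebraMap A K h • vK j ∈ _
    rw [hvK]
    exact sum_mem fun i _ => Submodule.smul_mem _ _ (Submodule.subset_span ⟨i, rfl⟩)
  let aK : Fin n → K := fun j => algebraMap A K (algebraMap k A (a j.succ))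
  have hsum : ∑ j, aK j • vK j = 0 := (one_tmul_D_affine K a).symm.trans hdl
  have hcoef : ∀ i, algebraMap A K h * aK (σ i) + ∑ t : ↥(Jᶜ : Finset (Fin n)), aK t.1 * algebraMap A K (c t.1 i) = 0 := by
    refine Fintype.linearIndependent_iff.mp hliK _ ?_
    have := congrArg (fun z => algebraMap A K h • z) hsum
    simp only [smul_zero, Finset.smul_sum] at this
    rw [← this, ← Finset.sum_add_sum_compl J, Finset.sum_image hσinj.injOn]
    simp only [Function.comp_apply, add_smul, Finset.sum_add_distrib]
    congr 1
    · exact Finset.sum_congr rfl fun i _ => (smul_smul _ _ _).symm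
    · rw [← Finset.sum_coe_sort (Jᶜ : Finset (Fin n)) fun j => algebraMap A K h • aK j • vK j]
      simp only [smul_comm (algebraMap A K h), hvK, Finset.smul_sum, smul_smul, Finset.sum_smul]
      rw [Finset.sum_comm]
  let hu : IsUnit (algebraMap A K g) := IsUnit.mk0 _ hgK
  let ev : R →+* K := MvPolynomial.eval₂Hom (IsLocalization.Away.lift g hu : Ag →+* K)
    (fun t => aK t.1 / algebraMap A K h)
  have hevC : ∀ b : A, ev (MvPolynomial.C (algebraMap A Ag b)) = algebraMap A K b := fun b => by
    simp only [ev]
    exact (MvPolynomial.eval₂Hom_C _ _ _).trans (IsLocalization.Away.lift_eq (S := Ag) g hu b)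
  have hevX : ∀ t : ↥(Jᶜ : Finset (Fin n)), ev (MvPolynomial.X t) = aK t.1 / algebraMap A K h := fun t =>
    MvPolynomial.eval₂Hom_X' _ _ t
  have hw : ∀ j, ev (w j) = aK j := fun j => by
    by_cases hj : j ∈ J
    · simp only [w, dif_pos hj, map_neg, map_sum, map_mul, hevC, hevX]
      generalize hi : (Finset.mem_image.mp hj).choose = i
      have hi' : σ i = j := hi ▸ (Finset.mem_image.mp hj).choose_spec.2
      rw [← hi', eq_comm, ← sub_eq_zero, sub_neg_eq_add]
      refine (mul_eq_zero.mp ?_).resolve_left hhK
      rw [mul_add, Finset.mul_sum]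
      refine Eq.trans ?_ (hcoef i)
      congr 1
      refine Finset.sum_congr rfl fun t _ => ?_
      field_simp
    · simp only [w, dif_neg hj, map_mul, hevC, hevX]
      field_simp
  have hv : ∀ j, ev (v j) = algebraMap A K (algebraMap k A (a j)) := by
    refine Fin.cases ?_ fun j => ?_
    · simp only [v, Fin.cons_zero, map_neg, map_sum, map_mul, hevC, hw]
      rw [map_add, map_sum] at hl
      rw [eq_comm, eq_neg_iff_add_eq_zero]
      refine Eq.trans ?_ hl
      congr 1
      exact Finset.sum_congr rfl fun i _ => by rw [map_mul, mul_comm]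
    · simp only [v, Fin.cons_succ]
      exact hw j
  have key : ∀ P : MvPolynomial (Fin (n + 1)) k,
      ev (MvPolynomial.aeval v P) = algebraMap A K (algebraMap k A (MvPolynomial.eval a P)) := by
    intro P
    induction P using MvPolynomial.induction_on with
    | C r =>
      rw [MvPolynomial.aeval_C, MvPolynomial.eval_C, IsScalarTower.algebraMap_apply k Ag R,
        MvPolynomial.algebraMap_eq, IsScalarTower.algebraMap_apply k A Ag]
      exact hevC _
    | add p q hp hq => simp only [map_add, hp, hq]
    | mul_X p i hp => simp only [map_mul, MvPolynomial.aeval_X, MvPolynomial.eval_X, hp, hv]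
  refine ((algebraMap A K).comp (algebraMap k A)).injective ?_
  rw [map_zero, RingHom.comp_apply, ← key, hP0, map_zero]

end HypTransLib

end
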